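import Cfsg.Agent.H320.SD.Codim
import Cfsg.Agent.H830.Con24
import Cfsg.Agent.H833.Out24
import Cfsg.Agent.OddHalf.D4.Spor.FiTF
import Cfsg.Agent.SporadicStructure.FischerRank3

/-!
# Codimensions in modules for `Fi24'`: reduction to products of two transpositions (helper273, for S4908)

* `nc_pair`, `conj_prod` : pairs of transpositions; products of two transpositions;
* `triangle` : three commuting transpositions commuting with two given ones;
* `exists_move` : an even element centralising all transpositions commuting with `g` is trivial;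
* `allz` : if `b ≤ |A : C_A(de)|` for all distinct transpositions `d, e`, then `b ≤ |A : C_A(z)| ^ 4` for all `z ≠ 1`.
-/

set_option autoImplicit false

namespace Cfsg.Agent.H273.S8.F24

open Cfsg Cfsg.Spor Subgroup Cfsg.Agent.R01 Cfsg.Agent.R08 Cfsg.Agent.R08.FiTwentyFour Cfsg.Agent.R08.TetFi24A
open Cfsg.Agent.Fischer.Fi24Class (gen gen_sq)
open Cfsg.Agent.H320.SD (fx index_comm)
open Cfsg.Agent.OddHalf.D4.Spor.FiTF (pair_fix fi22_center)
open Cfsg.Agent.SporadicStructure.FischerSpace (FData fdata_of_class)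

universe u

theorem fdata : FData L := fdata_of_class Cfsg.Agent.H830.Con24.fgroup.cls

theorem cj {G : Type*} [Group G] {a b g : G} (h : Commute a b) : Commute (g * a * g⁻¹) (g * b * g⁻¹) :=
  h.map (MulAut.conj g).toMonoidHom

theorem cj_iff {G : Type*} [Group G] {a b g : G} : Commute (g * a * g⁻¹) (g * b * g⁻¹) ↔ Commute a b := by
  refine ⟨fun h => ?_, cj⟩
  have h1 := cj (g := g⁻¹) h
  have e : ∀ x : G, g⁻¹ * (g * x * g⁻¹) * g⁻¹⁻¹ = x := fun x => by group
  rwa [e, e] at h1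

/-- transitivity on the pairs of noncommuting transpositions -/
theorem nc_pair {a b a' b' : Fi24} (ha : a ∈ L) (hb : b ∈ L) (ha' : a' ∈ L) (hb' : b' ∈ L)
    (h : ¬ Commute a b) (h' : ¬ Commute a' b') : ∃ g : Fi24, g * a * g⁻¹ = a' ∧ g * b * g⁻¹ = b' := by
  have := finite_Fi24
  obtain ⟨g₁, h1⟩ := fdata.single a ha a' ha'
  have h2 : ¬ Commute a' (g₁ * b * g₁⁻¹) := by
    rw [← h1, cj_iff]
    exact h
  obtain ⟨g₂, h3, h4⟩ := Cfsg.Agent.SporadicStructure.FischerRank3.col_trans fdata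
    Cfsg.Agent.H830.Con24.fgroup.sol Cfsg.Agent.H830.Con24.fgroup.perf ha' (FiTwentyFour.conj hb g₁) hb' h2 h'
  refine ⟨g₂ * g₁, ?_, ?_⟩
  · calc g₂ * g₁ * a * (g₂ * g₁)⁻¹ = g₂ * (g₁ * a * g₁⁻¹) * g₂⁻¹ := by group
      _ = a' := by rw [h1, h3]
  · calc g₂ * g₁ * b * (g₂ * g₁)⁻¹ = g₂ * (g₁ * b * g₁⁻¹) * g₂⁻¹ := by group
      _ = b' := h4

/-- three commuting transpositions commuting with two given ones -/
theorem triangle {g h : Fi24} (hg : g ∈ L) (hh : h ∈ L) (hne : g ≠ h) :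
    ∃ e f k : Fi24, e ∈ L ∧ f ∈ L ∧ k ∈ L ∧ Commute e f ∧ Commute e k ∧ Commute f k ∧ e ≠ f ∧ e ≠ k ∧ f ≠ k ∧
      Commute e g ∧ Commute f g ∧ Commute k g ∧ Commute e h ∧ Commute f h ∧ Commute k h := by
  have key : ∀ x : Fi24.Gen, (∀ y ∈ [Fi24.Gen.c, .e, .g], Commute (gen y) (gen x)) →
      (∃ t : Fi24, t * gen .l * t⁻¹ = g ∧ t * gen x * t⁻¹ = h) →
      ∃ e f k : Fi24, e ∈ L ∧ f ∈ L ∧ k ∈ L ∧ Commute e f ∧ Commute e k ∧ Commute f k ∧ e ≠ f ∧ e ≠ k ∧ f ≠ k ∧
        Commute e g ∧ Commute f g ∧ Commute k g ∧ Commute e h ∧ Commute f h ∧ Commute k h := by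
    rintro x hx ⟨t, rfl, rfl⟩
    have inj : ∀ {a b : Fi24}, a ≠ b → t * a * t⁻¹ ≠ t * b * t⁻¹ := fun hab h =>
      hab (mul_left_cancel (mul_right_cancel h))
    refine ⟨t * gen .c * t⁻¹, t * gen .e * t⁻¹, t * gen .g * t⁻¹, FiTwentyFour.conj (gen_mem_L _) t,
      FiTwentyFour.conj (gen_mem_L _) t, FiTwentyFour.conj (gen_mem_L _) t,
      cj (H833.Out24.gen_commute (by decide)), cj (H833.Out24.gen_commute (by decide)),
      cj (H833.Out24.gen_commute (by decide)), inj (H833.Out24.ne_gen (by decide)),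
      inj (H833.Out24.ne_gen (by decide)), inj (H833.Out24.ne_gen (by decide)),
      cj (H833.Out24.gen_commute (by decide)), cj (H833.Out24.gen_commute (by decide)),
      cj (H833.Out24.gen_commute (by decide)), cj (hx _ (by simp)), cj (hx _ (by simp)), cj (hx _ (by simp))⟩
  by_cases hc : Commute g h
  · obtain ⟨t, -, h1, h2⟩ := trans2 (gen_mem_L .l) (gen_mem_L .a) hg hh (H833.Out24.ne_gen (by decide))
      (H833.Out24.gen_commute (by decide)) hne hc
    refine key .a ?_ ⟨t, h1, h2⟩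
    intro y hy
    simp only [List.mem_cons, List.not_mem_nil, or_false] at hy
    rcases hy with rfl | rfl | rfl <;> exact H833.Out24.gen_commute (by decide)
  · obtain ⟨t, h1, h2⟩ := nc_pair (gen_mem_L .l) (gen_mem_L .k) hg hh
      (H833.Out24.gen_not_commute (by decide) (by decide)) hc
    refine key .k ?_ ⟨t, h1, h2⟩
    intro y hy
    simp only [List.mem_cons, List.not_mem_nil, or_false] at hy
    rcases hy with rfl | rfl | rfl <;> exact H833.Out24.gen_commute (by decide)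

/-- **products of two transpositions are conjugate in `Fi24'`** -/
theorem conj_prod {a b a' b' : Fi24} (ha : a ∈ L) (hb : b ∈ L) (ha' : a' ∈ L) (hb' : b' ∈ L) (hne : a ≠ b)
    (hne' : a' ≠ b') (h : Commute a b ↔ Commute a' b') :
    ∃ g ∈ commutator Fi24, g * (a * b) * g⁻¹ = a' * b' := by
  by_cases hc : Commute a b
  · obtain ⟨g, hg, h1, h2⟩ := trans2 ha hb ha' hb' hne hc hne' (h.1 hc)
    refine ⟨g, hg, ?_⟩
    rw [← h1, ← h2]; group
  · obtain ⟨g, h1, h2⟩ := nc_pair ha hb ha' hb' hc fun h' => hc (h.2 h')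
    obtain ⟨e, -, -, he, -, -, -, -, -, -, -, -, ea, -, -, eb, -, -⟩ := triangle ha' hb' hne'
    by_cases hg : g ∈ commutator Fi24
    · refine ⟨g, hg, ?_⟩
      rw [← h1, ← h2]; group
    · refine ⟨e * g, ?_, ?_⟩
      · rw [Subgroup.mul_mem_iff_of_index_two index_commutator]
        exact ⟨fun h => absurd h (odd he), fun h => absurd h hg⟩
      · calc e * g * (a * b) * (e * g)⁻¹ = e * ((g * a * g⁻¹) * (g * b * g⁻¹)) * e⁻¹ := by group
          _ = e * (a' * b') * e⁻¹ := by rw [h1, h2]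
          _ = a' * b' := by rw [← mul_assoc, ea.eq, mul_assoc a' e, eb.eq]; group

theorem closure_T : closure Fi22Facts.T = ⊤ := by
  rw [eq_top_iff, ← PresentedGroup.closure_range_of]
  refine closure_mono ?_
  rintro _ ⟨x, rfl⟩
  exact Fi22Facts.gen_mem x

/-- an even element centralising the transpositions commuting with `g` and `b` is `1` or `gb` -/
theorem eq_of_fix {w : Spor.Fi24'} {g b : Fi24} (hg : g ∈ L) (hb : b ∈ L) (hne : g ≠ b) (hgb : Commute g b)
    (hwg : (w : Fi24) * g = g * w) (h : ∀ f ∈ L, Commute f g → (w : Fi24) * f = f * w) :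
    w = 1 ∨ (w : Fi24) = g * b := by
  obtain ⟨P⟩ := exists_at hg hb hne hgb
  have hw : (w : Fi24) ∈ Cab g b := mem_Cab.2 ⟨mem_commutator_iff.1 w.2, hwg, h b hb hgb.symm⟩
  have h1 : ∀ q : Fi22, P.π ⟨w, hw⟩ * q = q * P.π ⟨w, hw⟩ := by
    intro q
    have h2 : closure Fi22Facts.T ≤ centralizer ({P.π ⟨w, hw⟩} : Set Fi22) := by
      rw [closure_le]
      intro t ht
      obtain ⟨c, hc, rfl⟩ := P.exists_x ht
      rw [SetLike.mem_coe, mem_centralizer_singleton_iff, ← map_mul, ← map_mul]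
      congr 1
      apply Subtype.ext
      show g * c * (w : Fi24) = (w : Fi24) * (g * c)
      rw [mul_assoc, ← h c hc.hc hc.ca, ← mul_assoc, ← hwg, mul_assoc]
    rw [closure_T] at h2
    exact (mem_centralizer_singleton_iff.1 (h2 (mem_top q))).symm
  have h2 := (P.lift.ext.ker _).1 (fi22_center h1)
  rcases h2 with h2 | h2
  · left
    apply Subtype.ext
    exact congrArg (fun x : Cab g b => (x : Fi24)) h2
  · right
    rw [← P.hz, ← h2]

/-- **an even element `≠ 1` commuting with `g` moves a transposition commuting with `g`** -/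
theorem exists_move {w : Spor.Fi24'} (hw : w ≠ 1) {g : Fi24} (hg : g ∈ L) (hwg : (w : Fi24) * g = g * w) :
    ∃ f ∈ L, Commute f g ∧ (w : Fi24) * f * (w : Fi24)⁻¹ ≠ f := by
  by_contra hno
  push Not at hno
  have h : ∀ f ∈ L, Commute f g → (w : Fi24) * f = f * w := fun f hf hfg =>
    mul_inv_eq_iff_eq_mul.1 (hno f hf hfg)
  have hcard := ncard_commuting hg
  obtain ⟨b, hb, c, hc, hbc⟩ := (Set.one_lt_ncard (s := {c | c ∈ L ∧ c ≠ g ∧ Commute c g})
    (Set.finite_of_ncard_ne_zero (by rw [hcard]; norm_num))).1 (by rw [hcard]; norm_num)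
  have e1 := eq_of_fix hg hb.1 hb.2.1.symm hb.2.2.symm hwg h
  have e2 := eq_of_fix hg hc.1 hc.2.1.symm hc.2.2.symm hwg h
  rcases e1 with e1 | e1
  · exact hw e1
  · rcases e2 with e2 | e2
    · exact hw e2
    · exact hbc (mul_left_cancel (e1.symm.trans e2))

section Act

variable {A : Type u} [AddCommGroup A] [Finite A] [DistribMulAction Spor.Fi24' A]

/-- the product of two transpositions as an element of `Fi24'` -/
def pr {d e : Fi24} (hd : d ∈ L) (he : e ∈ L) : Spor.Fi24' := ⟨d * e, FiTwentyFour.even hd he⟩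

theorem coe_pr {d e : Fi24} (hd : d ∈ L) (he : e ∈ L) : ((pr hd he : Spor.Fi24') : Fi24) = d * e := rfl

/-- elements commuting with a transposition -/
theorem step {b : ℕ} (hb : ∀ (d e : Fi24) (hd : d ∈ L) (he : e ∈ L), d ≠ e → b ≤ (fx A (pr hd he)).index)
    {w : Spor.Fi24'} (hw : w ≠ 1) {g : Fi24} (hg : g ∈ L) (hwg : (w : Fi24) * g = g * w) :
    b ≤ (fx A w).index ^ 2 := by
  obtain ⟨f, hf, hfg, hne⟩ := exists_move hw hg hwg
  refine le_trans ?_ (index_comm w (pr hf hg))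
  have e : w * (pr hf hg * w⁻¹ * (pr hf hg)⁻¹) = pr (FiTwentyFour.conj hf (w : Fi24)) hf := by
    apply Subtype.ext
    show (w : Fi24) * (f * g * (w : Fi24)⁻¹ * (f * g)⁻¹) = (w : Fi24) * f * (w : Fi24)⁻¹ * f
    have hgg : g * g = 1 := FiTwentyFour.sq hg
    have hff : f * f = 1 := FiTwentyFour.sq hf
    have h1 : g⁻¹ = g := inv_eq_of_mul_eq_one_left hgg
    have h2 : f⁻¹ = f := inv_eq_of_mul_eq_one_left hff
    have h3 : g * (w : Fi24)⁻¹ = (w : Fi24)⁻¹ * g := by
      rw [eq_inv_mul_iff_mul_eq, ← mul_assoc, hwg, mul_assoc, mul_inv_cancel, mul_one]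
    calc (w : Fi24) * (f * g * (w : Fi24)⁻¹ * (f * g)⁻¹) = (w : Fi24) * f * (g * (w : Fi24)⁻¹) * g⁻¹ * f⁻¹ := by group
      _ = (w : Fi24) * f * (w : Fi24)⁻¹ * (g * g⁻¹) * f⁻¹ := by rw [h3]; group
      _ = (w : Fi24) * f * (w : Fi24)⁻¹ * f := by rw [mul_inv_cancel, mul_one, h2]
  rw [e]
  exact hb _ _ _ _ hne

/-- **every element** -/
theorem allz {b : ℕ} (hb : ∀ (d e : Fi24) (hd : d ∈ L) (he : e ∈ L), d ≠ e → b ≤ (fx A (pr hd he)).index)
    {z : Spor.Fi24'} (hz : z ≠ 1) : b ≤ (fx A z).index ^ 4 := by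
  by_cases hc : ∃ g ∈ L, (z : Fi24) * g = g * z
  · obtain ⟨g, hg, h1⟩ := hc
    have h2 : (fx A z).index ≠ 0 := AddSubgroup.index_ne_zero_of_finite
    exact (step hb hz hg h1).trans (Nat.pow_le_pow_right (Nat.pos_of_ne_zero h2) (by norm_num))
  · push Not at hc
    set g : Fi24 := gen .l with hgdef
    have hg : g ∈ L := gen_mem_L .l
    set h0 : Fi24 := (z : Fi24)⁻¹ * g * (z : Fi24) with hh0
    have hh : h0 ∈ L := by
      have := FiTwentyFour.conj hg (z : Fi24)⁻¹
      rwa [inv_inv] at this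
    have hne : g ≠ h0 := by
      intro h
      apply hc g hg
      calc (z : Fi24) * g = z * h0 := by rw [← h]
        _ = g * z := by rw [hh0]; group
    obtain ⟨e, f, k, he, hf, hk, ef, ek, fk, nef, nek, nfk, eg, fg, kg, eh, fh, kh⟩ := triangle hg hh hne
    obtain ⟨x, y, hx, hy, xg, yg, xh, yh, hxy⟩ : ∃ x y : Fi24, ∃ (_ : x ∈ L) (_ : y ∈ L), Commute x g ∧ Commute y g ∧
        Commute x h0 ∧ Commute y h0 ∧ (z : Fi24) * (x * y) * (z : Fi24)⁻¹ ≠ x * y := by
      by_contra hno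
      push Not at hno
      have q1 := hno e f he hf eg fg eh fh
      have q2 := hno e k he hk eg kg eh kh
      have nfix : (z : Fi24) * e * (z : Fi24)⁻¹ ≠ e := fun h => hc e he (mul_inv_eq_iff_eq_mul.1 h)
      rcases pair_fix he hf ef nef q1 with ⟨r1, -⟩ | ⟨r1, -⟩
      · exact nfix r1
      · rcases pair_fix he hk ek nek q2 with ⟨r2, -⟩ | ⟨r2, -⟩
        · exact nfix r2
        · exact nfk (r1.symm.trans r2)
    set p : Spor.Fi24' := pr hx hy with hp
    have pg : Commute (x * y) g := xg.mul_left yg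
    have ph : Commute (x * y) h0 := xh.mul_left yh
    set w : Spor.Fi24' := z * (p * z⁻¹ * p⁻¹) with hwdef
    have hwc : (w : Fi24) = (z : Fi24) * (x * y) * (z : Fi24)⁻¹ * (x * y)⁻¹ := by
      show (z : Fi24) * (x * y * (z : Fi24)⁻¹ * (x * y)⁻¹) = _
      group
    have hw : w ≠ 1 := by
      intro h
      apply hxy
      have h1 : (w : Fi24) = 1 := by rw [h]; rfl
      rw [hwc, mul_inv_eq_one] at h1
      exact h1
    have hwg : (w : Fi24) * g = g * w := by
      have a1 : (x * y)⁻¹ * g = g * (x * y)⁻¹ := (pg.inv_left).eq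
      have a2 : (x * y) * h0 = h0 * (x * y) := ph.eq
      have a3 : (z : Fi24)⁻¹ * g = h0 * (z : Fi24)⁻¹ := by rw [hh0]; group
      have a4 : (z : Fi24) * h0 = g * z := by rw [hh0]; group
      rw [hwc]
      calc (z : Fi24) * (x * y) * (z : Fi24)⁻¹ * (x * y)⁻¹ * g
          = (z : Fi24) * (x * y) * (z : Fi24)⁻¹ * ((x * y)⁻¹ * g) := by group
        _ = (z : Fi24) * (x * y) * ((z : Fi24)⁻¹ * g) * (x * y)⁻¹ := by rw [a1]; group
        _ = (z : Fi24) * ((x * y) * h0) * (z : Fi24)⁻¹ * (x * y)⁻¹ := by rw [a3]; group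
        _ = ((z : Fi24) * h0) * (x * y) * (z : Fi24)⁻¹ * (x * y)⁻¹ := by rw [a2]; group
        _ = g * ((z : Fi24) * (x * y) * (z : Fi24)⁻¹ * (x * y)⁻¹) := by rw [a4]; group
    have h1 : b ≤ (fx A w).index ^ 2 := step hb hw hg hwg
    have h2 : (fx A w).index ≤ (fx A z).index ^ 2 := index_comm z p
    calc b ≤ (fx A w).index ^ 2 := h1
      _ ≤ ((fx A z).index ^ 2) ^ 2 := Nat.pow_le_pow_left h2 2
      _ = (fx A z).index ^ 4 := by rw [← pow_mul]

end Act

end Cfsg.Agent.H273.S8.F24
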