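import Cfsg.Agent.H587.S8.Out
import Cfsg.Agent.H123.Cls.FiOre
import Cfsg.Agent.H836.Main
import Cfsg.Agent.S2079
import Cfsg.Agent.H424.DegTools

/-!
# S4908, `Fi22`, OUT: `cd(Fi22) ≠ cd(Fi22 : 2)` (helper273)

* `aut_two` : an element `w` of order 13 is mapped to `w ^ 2` by an automorphism (only one of the 59 classes of
  `Fi22 : 2` in `Fi22` has elements of order 13);
* `not_conj_two` : not by an inner one (`|N(⟨w⟩)| = 78`);
* `card_cent_aut` : so `w` is self-centralising in `Aut Fi22`;
* `ne_model`, `out` : the degree sets are different (`H587.S8.not_subset` with `q = 13`).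
-/

set_option autoImplicit false
set_option maxRecDepth 1000000
set_option exponentiation.threshold 5000

namespace Cfsg.Agent.H273.S8.Fi22Out

open Equiv Subgroup Cfsg Cfsg.Agent.H123.Cls Cfsg.Agent.Lib.BitNet Cfsg.Agent.H123.Cls.FiDat
open Cfsg.Agent.H494.F22 (A N exists_aut rho rho_injective)
open Cfsg.Agent.H836.Main (centralizer_zpowers thirteen_concl)

universe v

/-- the 13th power of the table fixes `0, 1, 2` -/
noncomputable def fx (T : ℕ) : Bool :=
  Nat.beq (it 12 T 13 0) 0 && Nat.beq (it 12 T 13 1) 1 && Nat.beq (it 12 T 13 2) 2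

theorem D13 : (D.all fun x => Nat.beq x.1 p45 || Nat.beq x.1 p58 || !(fx x.1)) = true := by
  unfold D
  decide +kernel

theorem p58_id : allN (fun p => Nat.beq (lk 12 p58 p) p) 3510 = true := by decide +kernel

theorem it_tab {r : Perm (Fin 3510)} {T : ℕ} (hr : ∀ p : Fin 3510, (r p : ℕ) = lk 12 T p) (j : ℕ) :
    ∀ p : Fin 3510, ((r ^ j) p : ℕ) = it 12 T j p := by
  induction j with
  | zero => intro p; rfl
  | succ j ih =>
    intro p
    rw [it_succ, ← hr p, ← ih (r p), pow_succ, Perm.mul_apply]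

/-- elements of order 13 are conjugate to the permutation with table `p45` -/
theorem tab {g : Spor.Fi22} (hg : orderOf g = 13) : ∃ r : Perm (Fin 3510), (∀ p : Fin 3510, (r p : ℕ) = lk 12 p45 p) ∧
    ∃ b ∈ A, rho g = b * r * b⁻¹ := by
  obtain ⟨x, hx, r, -, hr, b, hb, h⟩ := fi_cover (rho g) ⟨g, rfl⟩
  have h13 : r ^ 13 = 1 := by
    have h1 : (rho g) ^ 13 = 1 := by rw [← map_pow, ← hg, pow_orderOf_eq_one, map_one]
    rw [h, conj_pow, conj_eq_one_iff] at h1
    exact h1
  have hfx : fx x.1 = true := by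
    have h0 : ∀ p : Fin 3510, it 12 x.1 13 p = p := by
      intro p
      rw [← it_tab hr 13 p, h13]
      rfl
    unfold fx
    rw [h0 ⟨0, by norm_num⟩, h0 ⟨1, by norm_num⟩, h0 ⟨2, by norm_num⟩]
    rfl
  have h2 := List.all_eq_true.1 D13 x hx
  simp only [Bool.or_eq_true, hfx, Bool.not_true, Bool.false_eq_true, or_false] at h2
  rcases h2 with h2 | h2
  · rw [Nat.eq_of_beq_eq_true h2] at hr
    exact ⟨r, hr, b, hb, h⟩
  · exfalso
    rw [Nat.eq_of_beq_eq_true h2] at hr
    have h3 : r = 1 := by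
      ext p
      rw [hr]
      exact Nat.eq_of_beq_eq_true ((allN_iff _ _).1 p58_id p p.2)
    rw [h3, mul_one, mul_inv_cancel] at h
    have h4 : g = 1 := rho_injective (by rw [h, map_one])
    rw [h4, orderOf_one] at hg
    norm_num at hg

/-- **fusion in `Aut Fi22`** -/
theorem aut_two {w : Spor.Fi22} (hw : orderOf w = 13) : ∃ θ : MulAut Spor.Fi22, θ w = w ^ 2 := by
  obtain ⟨r, hr, b, hb, h⟩ := tab hw
  have hw2 : orderOf (w ^ 2) = 13 := by
    rw [orderOf_pow, hw]
    norm_num
  obtain ⟨s, hs, c, hc, h'⟩ := tab hw2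
  have hrs : r = s := perm_eq_of_tab hr hs
  subst hrs
  obtain ⟨θ, hθ⟩ := exists_aut (A.mul_mem hc (A.inv_mem hb))
  refine ⟨θ, rho_injective ?_⟩
  rw [hθ, h', h]
  group

theorem thirteen {w : Spor.Fi22} (hw : orderOf w = 13) : Nat.card (centralizer ({w} : Set Spor.Fi22)) = 13 ∧
    Nat.card (normalizer ((zpowers w : Subgroup Spor.Fi22) : Set Spor.Fi22)) = 78 := by
  obtain ⟨h1, h2⟩ := (thirteen_concl (MulEquiv.refl Spor.Fi22)).2 (zpowers w) (by rw [Nat.card_zpowers, hw])
  exact ⟨by rw [← centralizer_zpowers, h2, Nat.card_zpowers, hw], h1⟩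

/-- **no fusion in `Fi22`** -/
theorem not_conj_two {w : Spor.Fi22} (hw : orderOf w = 13) (g : Spor.Fi22) : g * w * g⁻¹ ≠ w ^ 2 := by
  intro h
  have hk : ∀ k : ℕ, g ^ k * w * (g ^ k)⁻¹ = w ^ 2 ^ k := by
    intro k
    induction k with
    | zero => simp
    | succ k ih =>
      rw [pow_succ' g k, pow_succ' 2 k, pow_mul, ← h, conj_pow, ← ih]
      group
  have hfin : Finite Spor.Fi22 := Nat.finite_of_card_ne_zero (by rw [Cfsg.Agent.S1696.result.2]; norm_num)
  have hg : g ∈ normalizer ((zpowers w : Subgroup Spor.Fi22) : Set Spor.Fi22) := by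
    have h0 : (zpowers w).map (MulAut.conj g).toMonoidHom = zpowers w := by
      rw [MonoidHom.map_zpowers]
      have h1 : (MulAut.conj g).toMonoidHom w = w ^ 2 := h
      rw [h1]
      refine Subgroup.eq_of_le_of_card_ge (zpowers_le.2 (pow_mem (mem_zpowers w) 2)) ?_
      rw [Nat.card_zpowers, Nat.card_zpowers, orderOf_pow, hw]
      norm_num
    rw [mem_normalizer_iff]
    intro x
    constructor
    · intro hx
      have h1 : (MulAut.conj g).toMonoidHom x ∈ (zpowers w).map (MulAut.conj g).toMonoidHom :=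
        mem_map_of_mem _ hx
      rwa [h0] at h1
    · intro hx
      have h1 : (MulAut.conj g).toMonoidHom x ∈ (zpowers w).map (MulAut.conj g).toMonoidHom := by
        rw [h0]; exact hx
      obtain ⟨y, hy, hyx⟩ := h1
      have h2 : y = x := (MulAut.conj g).injective hyx
      rwa [← h2]
  have h1 := hk 78
  have h2 : g ^ 78 = 1 := by
    have h4 : orderOf (⟨g, hg⟩ : normalizer ((zpowers w : Subgroup Spor.Fi22) : Set Spor.Fi22)) ∣ 78 :=
      (thirteen hw).2 ▸ orderOf_dvd_natCard _
    rw [Subgroup.orderOf_mk] at h4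
    exact orderOf_dvd_iff_pow_eq_one.1 h4
  rw [h2, one_mul, inv_one, mul_one] at h1
  have h3 : w ^ 2 ^ 78 = w ^ 12 := by
    rw [← pow_mod_orderOf, hw]
    norm_num
  rw [h3] at h1
  have h4 : w ^ 11 = 1 := by
    have h5 : w * w ^ 11 = w * 1 := by rw [← pow_succ', ← h1, mul_one]
    exact mul_left_cancel h5
  have h5 := orderOf_dvd_of_pow_eq_one h4
  rw [hw] at h5
  norm_num at h5

theorem index_two : (MulAut.conj : Spor.Fi22 →* MulAut Spor.Fi22).range.index = 2 := Cfsg.Agent.S2079.result

theorem card_fi22 : Nat.card Spor.Fi22 = 64561751654400 := Cfsg.Agent.S1696.result.2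

theorem conj_inj : Function.Injective (MulAut.conj : Spor.Fi22 →* MulAut Spor.Fi22) := by
  have hs : IsSimpleGroup Spor.Fi22 := Cfsg.Agent.S1696.result.1
  rw [← MonoidHom.ker_eq_bot_iff]
  rcases IsSimpleGroup.eq_bot_or_eq_top_of_normal (MulAut.conj : Spor.Fi22 →* MulAut Spor.Fi22).ker inferInstance with
    h | h
  · exact h
  · exfalso
    have : Finite Spor.Fi22 := Nat.finite_of_card_ne_zero (by rw [card_fi22]; norm_num)
    have : Fact (Nat.Prime 13) := ⟨by norm_num⟩
    obtain ⟨w, hw⟩ := exists_prime_orderOf_dvd_card' (G := Spor.Fi22) 13 (by rw [card_fi22]; norm_num)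
    have h1 := (thirteen hw).1
    have h2 : centralizer ({w} : Set Spor.Fi22) = ⊤ := by
      rw [eq_top_iff]
      intro y _
      rw [mem_centralizer_singleton_iff]
      have h3 : y ∈ (MulAut.conj : Spor.Fi22 →* MulAut Spor.Fi22).ker := h ▸ mem_top _
      have h4 := DFunLike.congr_fun (MonoidHom.mem_ker.1 h3) w
      rw [MulAut.conj_apply, MulAut.one_apply] at h4
      exact mul_inv_eq_iff_eq_mul.1 h4
    rw [h2, Nat.card_congr Subgroup.topEquiv.toEquiv, card_fi22] at h1
    norm_num at h1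

/-- **`w` is self-centralising in `Aut Fi22`** -/
theorem card_cent_aut {w : Spor.Fi22} (hw : orderOf w = 13) :
    Nat.card (centralizer ({MulAut.conj w} : Set (MulAut Spor.Fi22))) = 13 := by
  have hfin : Finite Spor.Fi22 := Nat.finite_of_card_ne_zero (by rw [card_fi22]; norm_num)
  have h1 : centralizer ({MulAut.conj w} : Set (MulAut Spor.Fi22)) =
      (centralizer ({w} : Set Spor.Fi22)).map (MulAut.conj : Spor.Fi22 →* MulAut Spor.Fi22) := by
    ext s
    constructor
    · intro hs
      rw [mem_centralizer_singleton_iff] at hs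
      have hsw : s w = w := by
        apply conj_inj
        have h2 : MulAut.conj (s w) = s * MulAut.conj w * s⁻¹ := by
          ext x
          simp [MulAut.conj_apply]
        rw [h2, hs]
        group
      obtain ⟨θ, hθ⟩ := aut_two hw
      have hθI : θ ∉ (MulAut.conj : Spor.Fi22 →* MulAut Spor.Fi22).range := by
        rintro ⟨g, rfl⟩
        exact not_conj_two hw g hθ
      have hsI : s ∈ (MulAut.conj : Spor.Fi22 →* MulAut Spor.Fi22).range := by
        by_contra hsI
        have h3 : θ * s ∈ (MulAut.conj : Spor.Fi22 →* MulAut Spor.Fi22).range := by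
          rw [Subgroup.mul_mem_iff_of_index_two index_two]
          exact ⟨fun h => absurd h hθI, fun h => absurd h hsI⟩
        obtain ⟨g, hg⟩ := h3
        refine not_conj_two hw g ?_
        have h4 := DFunLike.congr_fun hg w
        rw [MulAut.conj_apply, MulAut.mul_apply, hsw, hθ] at h4
        exact h4
      obtain ⟨g, rfl⟩ := hsI
      refine ⟨g, ?_, rfl⟩
      rw [SetLike.mem_coe, mem_centralizer_singleton_iff]
      rw [MulAut.conj_apply] at hsw
      exact mul_inv_eq_iff_eq_mul.1 hsw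
    · rintro ⟨g, hg, rfl⟩
      rw [SetLike.mem_coe, mem_centralizer_singleton_iff] at hg
      rw [mem_centralizer_singleton_iff, ← map_mul, ← map_mul, hg]
  rw [h1, ← (thirteen hw).1]
  exact (Nat.card_congr ((centralizer ({w} : Set Spor.Fi22)).equivMapOfInjective _ conj_inj).toEquiv).symm

theorem card_aut : Nat.card (MulAut Spor.Fi22) = 2 * Nat.card Spor.Fi22 := by
  have h1 := (MulAut.conj : Spor.Fi22 →* MulAut Spor.Fi22).range.card_mul_index
  rw [index_two, ← Nat.card_congr (MonoidHom.ofInjective conj_inj).toEquiv] at h1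
  rw [← h1, mul_comm]

theorem ne_model : charDegrees Spor.Fi22 ≠ charDegrees (MulAut Spor.Fi22) := by
  intro h
  have hfin : Finite Spor.Fi22 := Nat.finite_of_card_ne_zero (by rw [card_fi22]; norm_num)
  have hfin2 : Finite (MulAut Spor.Fi22) := Nat.finite_of_card_ne_zero (by rw [card_aut, card_fi22]; norm_num)
  have : Fact (Nat.Prime 13) := ⟨by norm_num⟩
  obtain ⟨w, hw⟩ := exists_prime_orderOf_dvd_card' (G := Spor.Fi22) 13 (by rw [card_fi22]; norm_num)
  refine Cfsg.Agent.H587.S8.not_subset (q := 13) (by norm_num) hw (thirteen hw).1 (by rw [card_fi22]; norm_num)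
    (by rw [card_fi22]) (a := MulAut.conj w) ?_ (card_cent_aut hw) card_aut h.le
  rw [orderOf_injective _ conj_inj, hw]

/-- **OUT for `Fi22`** -/
theorem out {X : Type v} [Group X] (h : Spor.IsoFi22 X) : charDegrees X ≠ charDegrees (MulAut X) := by
  obtain ⟨e⟩ := h
  rw [H424.DegTools.charDegrees_congr e, H424.DegTools.charDegrees_congr (MulAut.congr e)]
  exact ne_model

end Cfsg.Agent.H273.S8.Fi22Out
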